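import Mathlib

/-!
# Coefficientwise derivations of power series rings
-/

set_option autoImplicit false
universe u v
attribute [local instance 10000] Ring.toIntAlgebra

namespace Groth.Agent.H1Nagata

variable {σ : Type v} {K : Type u} [CommRing K]

/-- Coefficientwise application of an additive map. -/
noncomputable def coefMap (φ : K →+ K) : MvPowerSeries σ K →+ MvPowerSeries σ K :=
  AddMonoidHom.compLeft φ (σ →₀ ℕ)

theorem coeff_coefMap (φ : K →+ K) (e : σ →₀ ℕ) (f : MvPowerSeries σ K) :
    MvPowerSeries.coeff e (coefMap φ f) = φ (MvPowerSeries.coeff e f) := rfl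

/-- Coefficientwise application of a derivation. -/
noncomputable def coefD (D : Derivation ℤ K K) : Derivation ℤ (MvPowerSeries σ K) (MvPowerSeries σ K) :=
  Derivation.mk' (coefMap D.toLinearMap.toAddMonoidHom).toIntLinearMap fun f g => by
    classical
    ext e
    show MvPowerSeries.coeff e (coefMap D.toLinearMap.toAddMonoidHom (f * g)) = MvPowerSeries.coeff e
      (f • coefMap D.toLinearMap.toAddMonoidHom g + g • coefMap D.toLinearMap.toAddMonoidHom f)
    rw [map_add, smul_eq_mul, smul_eq_mul, coeff_coefMap, MvPowerSeries.coeff_mul, MvPowerSeries.coeff_mul,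
      MvPowerSeries.coeff_mul, map_sum]
    simp only [coeff_coefMap]
    conv_rhs => arg 2; rw [← Finsupp.sum_antidiagonal_swap e fun a b => MvPowerSeries.coeff b g *
      D.toLinearMap.toAddMonoidHom (MvPowerSeries.coeff a f)]
    rw [← Finset.sum_add_distrib]
    refine Finset.sum_congr rfl fun x _ => ?_
    exact D.leibniz _ _

theorem coeff_coefD (D : Derivation ℤ K K) (e : σ →₀ ℕ) (f : MvPowerSeries σ K) :
    MvPowerSeries.coeff e (coefD D f) = D (MvPowerSeries.coeff e f) := rfl

theorem coefD_C (D : Derivation ℤ K K) (a : K) :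
    coefD (σ := σ) D (MvPowerSeries.C a) = MvPowerSeries.C (D a) := by
  classical
  ext e
  rw [coeff_coefD, MvPowerSeries.coeff_C, MvPowerSeries.coeff_C]
  split_ifs <;> simp

theorem coefD_X (D : Derivation ℤ K K) (i : σ) : coefD D (MvPowerSeries.X i) = 0 := by
  classical
  ext e
  rw [coeff_coefD, MvPowerSeries.coeff_X, map_zero]
  split_ifs <;> simp

end Groth.Agent.H1Nagata
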