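import Groth.Agent.PBasisLib.Field
import Groth.Agent.CplFib6.DerivTower
import Groth.Agent.CplFib6.PSDeriv
import Groth.Agent.CplKaehler4.PS
import Mathlib

/-!
# Coordinate derivations
-/

set_option autoImplicit false
universe u v w
attribute [local instance 10000] Ring.toIntAlgebra

namespace Groth.Agent.H1Nagata

open Finset

/-- Commuting derivations with dual elements and trivial `p`th iterates: coordinates. -/
structure IsCoord (p : ℕ) {E : Type u} [CommRing E] {τ : Type v} (D : τ → Derivation ℤ E E) (x : τ → E) : Prop where
  dual : ∀ t t', D t (x t') = open Classical in if t = t' then 1 else 0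
  comm : ∀ t t' y, D t (D t' y) = D t' (D t y)
  pth : ∀ t y, (⇑(D t))^[p] y = 0

variable {p : ℕ} [Fact p.Prime] {E : Type u} [CommRing E] [CharP E p] {τ : Type v}
  {D : τ → Derivation ℤ E E} {x : τ → E}

/-- A derivation killing the coordinates and the common constants vanishes. -/
theorem IsCoord.eq_zero [Fintype τ] (h : IsCoord p D x) {M : Type w} [AddCommGroup M] [Module E M]
    (Δ : Derivation ℤ E M) (hconst : ∀ y, (∀ t, D t y = 0) → Δ y = 0) (hx : ∀ t, Δ (x t) = 0) (y : E) :
    Δ y = 0 := by
  classical
  suffices H : ∀ (T : Finset τ) (y : E), (∀ t ∉ T, D t y = 0) → Δ y = 0 from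
    H univ y fun t ht => absurd (mem_univ t) ht
  intro T
  induction T using Finset.induction with
  | empty => exact fun y hy => hconst y fun t => hy t (notMem_empty t)
  | insert a T ha ih =>
    intro y hy
    suffices H2 : ∀ m ≤ p, ∀ y : E, (∀ t ∉ insert a T, D t y = 0) → (⇑(D a))^[m] y = 0 → Δ y = 0 from
      H2 p le_rfl y hy (h.pth a y)
    intro m
    induction m with
    | zero => intro _ y _ hy0; rw [Function.iterate_zero_apply] at hy0; rw [hy0, map_zero]
    | succ m ihm =>
      intro hm y hy hy0
      rcases Nat.eq_zero_or_pos m with rfl | hm0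
      · refine ih y fun t ht => ?_
        by_cases hta : t = a
        · subst hta; simpa using hy0
        · exact hy t (by simp [hta, ht])
      -- remove the top coefficient
      set e := (⇑(D a))^[m] y
      have hit : ∀ t, ∀ j : ℕ, ∀ z, D t ((⇑(D a))^[j] z) = (⇑(D a))^[j] (D t z) := fun t j => by
        induction j with
        | zero => exact fun z => rfl
        | succ j ihj =>
          intro z
          rw [Function.iterate_succ_apply', h.comm, ihj, Function.iterate_succ_apply']
      have he : ∀ t ∉ T, D t e = 0 := fun t ht => by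
        by_cases hta : t = a
        · subst hta
          show D t ((⇑(D t))^[m] y) = 0
          rw [← Function.iterate_succ_apply' (⇑(D t)), hy0]
        · rw [hit, hy t (by simp [hta, ht]), iterate_map_zero]
      have hpow : ∀ j : ℕ, (⇑(D a))^[j] (x a ^ j) = (j.factorial : E) := fun j => by
        induction j with
        | zero => simp
        | succ j ihj =>
          rw [Function.iterate_succ_apply, Derivation.leibniz_pow, h.dual, if_pos rfl, Nat.add_sub_cancel,
            smul_eq_mul, mul_one, iterate_map_nsmul, ihj, nsmul_eq_mul, Nat.factorial_succ, Nat.cast_mul]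
      have hlin : ∀ (c : E), D a c = 0 → ∀ (j : ℕ) z, (⇑(D a))^[j] (c * z) = c * (⇑(D a))^[j] z := fun c hc j => by
        induction j with
        | zero => exact fun z => rfl
        | succ j ihj =>
          intro z
          rw [Function.iterate_succ_apply', ihj, Derivation.leibniz, hc, smul_zero, add_zero, smul_eq_mul,
            Function.iterate_succ_apply']
      obtain ⟨c, hc⟩ : ∃ c : ℕ, (c : E) * (m.factorial : E) = 1 := by
        have hne : (m.factorial : ZMod p) ≠ 0 := by
          rw [Ne, CharP.cast_eq_zero_iff (ZMod p) p]
          intro hdvd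
          exact absurd ((Nat.Prime.dvd_factorial (Fact.out : p.Prime)).mp hdvd) (by omega)
        refine ⟨((m.factorial : ZMod p)⁻¹).val, ?_⟩
        have h1 : ((((m.factorial : ZMod p)⁻¹).val : ℕ) : ZMod p) * (m.factorial : ZMod p) = 1 := by
          rw [ZMod.natCast_zmod_val, inv_mul_cancel₀ hne]
        have := congrArg (ZMod.castHom (dvd_refl p) E) h1
        rwa [map_mul, map_natCast, map_natCast, map_one] at this
      let z := (c : E) * e * x a ^ m
      have hzΔ : Δ z = 0 := by
        show Δ ((c : E) * e * x a ^ m) = 0
        rw [Derivation.leibniz, Derivation.leibniz_pow, hx, smul_zero, smul_zero, smul_zero, zero_add,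
          Derivation.leibniz, ih e he, smul_zero, Derivation.map_natCast, smul_zero, add_zero, smul_zero]
      have hzD : ∀ t ∉ T, D t ((c : E) * e) = 0 := fun t ht => by
        rw [Derivation.leibniz, he t ht, smul_zero, Derivation.map_natCast, smul_zero, add_zero]
      have hsub : Δ (y - z) = 0 := by
        refine ihm (by omega) (y - z) (fun t ht => ?_) ?_
        · rw [mem_insert, not_or] at ht
          show D t (y - (c : E) * e * x a ^ m) = 0
          rw [map_sub, hy t (by simp [ht.1, ht.2]), Derivation.leibniz, hzD t ht.2, Derivation.leibniz_pow, h.dual,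
            if_neg ht.1]
          simp
        · rw [iterate_map_sub, show z = (c : E) * e * x a ^ m from rfl, hlin _ (hzD a ha), hpow]
          show e - (c : E) * e * (m.factorial : E) = 0
          linear_combination (-e) * hc
      rwa [map_sub, hzΔ, sub_zero] at hsub

/-- Derivations killing the common constants are combinations of the coordinate ones. -/
theorem IsCoord.eq_sum [Fintype τ] (h : IsCoord p D x) {M : Type w} [AddCommGroup M] [Module E M]
    (Δ : Derivation ℤ E M) (hconst : ∀ y, (∀ t, D t y = 0) → Δ y = 0) (y : E) :
    Δ y = ∑ t, D t y • Δ (x t) := by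
  classical
  let S : Derivation ℤ E M :=
    ∑ t, (LinearMap.toSpanSingleton E M (Δ (x t))).compDer (D t)
  have hS : ∀ y, S y = ∑ t, D t y • Δ (x t) := fun y => by
    show (∑ t, (LinearMap.toSpanSingleton E M (Δ (x t))).compDer (D t)) y = _
    rw [← Derivation.coeFnAddMonoidHom_apply, map_sum, Finset.sum_apply]
    rfl
  have h0 := h.eq_zero (Δ - S) (fun y hy => by
    rw [Derivation.sub_apply, hconst y hy, hS, Finset.sum_eq_zero fun t _ => by rw [hy t, zero_smul], sub_zero])
    (fun t => by
      rw [Derivation.sub_apply, hS, Finset.sum_eq_single t (fun t' _ hne => by rw [h.dual, if_neg hne, zero_smul])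
        (fun hh => absurd (mem_univ t) hh), h.dual, if_pos rfl, one_smul, sub_self]) y
  rwa [Derivation.sub_apply, hS, sub_eq_zero] at h0

/-- Subfamilies of coordinates. -/
theorem IsCoord.comp (h : IsCoord p D x) {σ : Type*} (f : σ → τ) (hf : Function.Injective f) :
    IsCoord p (D ∘ f) (x ∘ f) := by
  classical
  exact ⟨fun t t' => (h.dual _ _).trans (if_congr hf.eq_iff rfl rfl), fun t t' => h.comm _ _, fun t => h.pth _⟩

/-- The `p`th iterate vanishes as soon as it does on generators. -/
theorem derivation_iterate_eq (D : Derivation ℤ E E) :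
    ∃ D' : Derivation ℤ E E, ∀ y, D' y = (⇑D)^[p] y := CplFib6.exists_derivation_iterate p D

theorem commutator_eq_zero_iff (D D' : Derivation ℤ E E) (y : E) : ⁅D, D'⁆ y = 0 ↔ D (D' y) = D' (D y) := by
  rw [Derivation.commutator_apply, sub_eq_zero]

end Groth.Agent.H1Nagata
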