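import Groth.Agent.H1Nagata.Coord
import Mathlib

/-!
# A `p`-basis as coordinates
-/

set_option autoImplicit false
universe u
attribute [local instance 10000] Ring.toIntAlgebra

namespace Groth.Agent.H1Nagata

/-- Coordinates of a field of characteristic `p` whose common constants are the `p`th powers. -/
theorem exists_coord (K : Type u) [Field K] (p : ℕ) [Fact p.Prime] [CharP K p] :
    ∃ (β : Type u) (D : β → Derivation ℤ K K) (c : β → K), IsCoord p D c ∧
      ∀ y, (∀ b, D b y = 0) → ∃ a, a ^ p = y := by
  classical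
  let k₀ : Subfield K := (frobenius K p).fieldRange
  obtain ⟨B, -, -, hB⟩ := PBasisLib.exists_isPBasis p k₀ (Set.empty_subset (Set.univ : Set K))
    (fun t ht => absurd ht (Set.notMem_empty t))
    (eq_top_iff.mpr fun y _ => PBasisLib.subset_Fp p k₀ _ (Set.mem_univ y))
  choose d hd using fun b : B => PBasisLib.exists_derivation hB (L := K) fun b' => if b = b' then (1 : K) else 0
  let D : B → Derivation ℤ K K := fun b =>
    Derivation.mk' (d b).toLinearMap.toAddMonoidHom.toIntLinearMap fun x y => (d b).leibniz x y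
  have hD : ∀ b y, D b y = d b y := fun b y => rfl
  have hk₀ : ∀ (Δ : Derivation ℤ K K) (s : EGA41.pPowerSubalgebra p k₀ K), Δ s = 0 := fun Δ s => by
    have hs := s.2
    induction hs using Algebra.adjoin_induction with
    | mem y hy => obtain ⟨z, rfl⟩ := hy; exact PBasisLib.derivation_pow_eq_zero Δ z
    | algebraMap r =>
      obtain ⟨_, z, rfl⟩ := r
      exact PBasisLib.derivation_pow_eq_zero Δ z
    | add _ _ _ _ h1 h2 => rw [map_add, h1, h2, add_zero]
    | mul _ _ _ _ h1 h2 => rw [Derivation.leibniz, h1, h2, smul_zero, smul_zero, add_zero]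
  have hzero : ∀ (Δ : Derivation ℤ K K), (∀ b : B, Δ b = 0) → ∀ y, Δ y = 0 := fun Δ hΔ y => by
    let Δ' : Derivation k₀ K K := Derivation.mk'
      { toFun := Δ
        map_add' := map_add Δ
        map_smul' := fun r z => by
          obtain ⟨_, w, rfl⟩ := r
          rw [Algebra.smul_def, Derivation.leibniz,
            show Δ (algebraMap k₀ K ⟨_, w, rfl⟩) = 0 from PBasisLib.derivation_pow_eq_zero Δ w,
            smul_zero, add_zero]
          rfl } fun a b => Δ.leibniz a b
    have : Δ' = 0 := PBasisLib.derivation_ext hB.2 (fun s => hk₀ Δ s) hΔ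
    exact DFunLike.congr_fun this y
  have hdual : ∀ b b' : B, D b (b' : K) = if b = b' then 1 else 0 := fun b b' => hd b b'
  refine ⟨B, D, Subtype.val, ⟨hdual, fun t t' y => ?_, fun t y => ?_⟩, fun y hy => ?_⟩
  · rw [← commutator_eq_zero_iff]
    refine hzero _ (fun b => ?_) y
    rw [Derivation.commutator_apply, hdual, hdual]
    split_ifs <;> simp
  · obtain ⟨D', hD'⟩ := derivation_iterate_eq (p := p) (D t)
    rw [← hD']
    refine hzero _ (fun b => ?_) y
    rw [hD', show p = (p - 1) + 1 by have := (Fact.out : p.Prime).pos; omega, Function.iterate_succ_apply, hdual]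
    split_ifs
    · rw [show p - 1 = (p - 2) + 1 by have := (Fact.out : p.Prime).two_le; omega, Function.iterate_succ_apply,
        Derivation.map_one_eq_zero, iterate_map_zero]
    · rw [iterate_map_zero]
  · obtain ⟨bs, hbs⟩ := PBasisLib.exists_basis_D hB
    have h0 : KaehlerDifferential.D k₀ K y = 0 := by
      refine bs.forall_coord_eq_zero_iff.mp fun b => ?_
      have heq : bs.coord b = (d b).liftKaehlerDifferential := bs.ext fun b' => by
        rw [Module.Basis.coord_apply, Module.Basis.repr_self, hbs, Derivation.liftKaehlerDifferential_comp_D, hd,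
          Finsupp.single_apply]
        exact if_congr eq_comm rfl rfl
      rw [heq, Derivation.liftKaehlerDifferential_comp_D]
      exact hy b
    have hnf : ¬ PBasisLib.Free p k₀ (fun _ : PUnit.{u + 1} => y) := by
      rw [PBasisLib.free_iff_linearIndependent_D]
      exact fun h => h.ne_zero PUnit.unit h0
    by_contra hno
    refine hnf fun a hmem => ?_
    have hbot : PBasisLib.Fp p k₀ (∅ : Set K) = ⊥ := by
      rw [eq_bot_iff, PBasisLib.Fp, IntermediateField.adjoin_le_iff]
      rintro x (⟨z, rfl⟩ | hx)
      · exact IntermediateField.mem_bot.mpr ⟨⟨z ^ p, z, rfl⟩, rfl⟩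
      · exact absurd hx (Set.notMem_empty x)
    have h2 : y ∈ PBasisLib.Fp p k₀ (∅ : Set K) := by
      refine PBasisLib.Fp_mono p k₀ ?_ hmem
      rintro _ ⟨b, hb, -⟩
      exact absurd (Subsingleton.elim b a) hb
    rw [hbot, IntermediateField.mem_bot] at h2
    obtain ⟨⟨_, z, rfl⟩, hz⟩ := h2
    exact hno ⟨z, hz⟩

end Groth.Agent.H1Nagata
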